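import Mathlib
import Groth.Agent.Lib.Helper24.FibHom.SurjFlat
import Groth.Agent.Lib.lead.FlatEquidim
import Groth.Agent.Lib.Helper7.SmoothProperFlatFin

/-!
# Helper24 — a surjective homomorphism of abelian varieties of equal dimension is finite flat
-/

set_option autoImplicit false
set_option linter.style.haveILetI false
universe u

open CategoryTheory MonoidalCategory CartesianMonoidalCategory MonObj GrpObj AlgebraicGeometry Limits

namespace Groth.Agent.Lib.Helper24.AbIsog

open Groth.Agent.Lib.Helper7.SmoothProperFlatFin

/-- flat proper morphism between integral finite-type `k`-schemes of equal dimension is finite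
(the argument of helper7's `SmoothProperFlatFin.flat_iff_isFinite`). -/
theorem isFinite_of_flat (k : Type u) [Field k] {X Y : Scheme.{u}}
    (qX : X ⟶ Spec (CommRingCat.of k)) (qY : Y ⟶ Spec (CommRingCat.of k))
    [IsProper qX] [IsProper qY] [IsIntegral X] [IsIntegral Y]
    (g : X ⟶ Y) (hg : g ≫ qY = qX) (hdim : topologicalKrullDim X = topologicalKrullDim Y)
    [Flat g] : IsFinite g := by
  subst hg
  letI : Y.Over (Spec (CommRingCat.of k)) := ⟨qY⟩
  letI : X.Over (Spec (CommRingCat.of k)) := ⟨g ≫ qY⟩
  haveI : LocallyOfFiniteType (Y ↘ Spec (CommRingCat.of k)) :=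
    inferInstanceAs (LocallyOfFiniteType qY)
  haveI : LocallyOfFiniteType (X ↘ Spec (CommRingCat.of k)) :=
    inferInstanceAs (LocallyOfFiniteType (g ≫ qY))
  obtain ⟨n, hn⟩ := exists_nat_dim k X
  have hnY : topologicalKrullDim Y = n := hdim ▸ hn
  haveI : LocallyOfFiniteType g := locallyOfFiniteType_of_comp g qY
  haveI : IsProper g := IsProper.of_comp g qY
  have hfin : ∀ y, (g ⁻¹' {y}).Finite := by
    intro y
    haveI : IsLocallyNoetherian (g.fiber y) :=
      LocallyOfFiniteType.isLocallyNoetherian (g.fiberToSpecResidueField y)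
    haveI : CompactSpace (g.fiber y) :=
      QuasiCompact.compactSpace_of_compactSpace (g.fiberToSpecResidueField y)
    have hd : topologicalKrullDim (g.fiber y) ≤ 0 := by
      apply Groth.Agent.Lib.Helper7.TopDimComp.topologicalKrullDim_le_of_forall_component
      intro C hC
      have := Groth.Agent.Lib.lead.FlatEquidim.dim_component_add k (g ≫ qY) qY g rfl y C hC
      rw [hn, hnY] at this
      exact le_zero_of_add_eq _ n this
    haveI : IsLocallyArtinian (g.fiber y) := .of_topologicalKrullDim_le_zero hd
    haveI : IsArtinianScheme (g.fiber y) := {}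
    haveI : Finite (g.fiber y) := inferInstance
    rw [← g.range_fiberι y]
    exact Set.finite_range _
  haveI := LocallyQuasiFinite.of_finite_preimage_singleton g hfin
  exact IsFinite.of_isProper_of_locallyQuasiFinite g

/-- **S19572** -/
theorem main (k : Type u) [Field k]
    (X Y : Over (Spec (CommRingCat.of k)))
    [GrpObj X] [IsProper X.hom] [GeometricallyIntegral X.hom]
    [GrpObj Y] [IsProper Y.hom] [GeometricallyIntegral Y.hom]
    (f : X ⟶ Y) [IsMonHom f] [Surjective f.left]
    (hdim : topologicalKrullDim X.left = topologicalKrullDim Y.left) :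
    IsFinite f.left ∧ Flat f.left := by
  haveI : IsIntegral X.left := GeometricallyIntegral.isIntegral_of_subsingleton X.hom
  haveI : IsIntegral Y.left := GeometricallyIntegral.isIntegral_of_subsingleton Y.hom
  haveI : LocallyOfFinitePresentation X.hom :=
    LocallyOfFinitePresentation.iff_locallyOfFiniteType.2 inferInstance
  haveI : LocallyOfFinitePresentation Y.hom :=
    LocallyOfFinitePresentation.iff_locallyOfFiniteType.2 inferInstance
  have hflat : Flat f.left := (Groth.Agent.Lib.Helper24.FibHom.flat_of_surjective f).1
  exact ⟨isFinite_of_flat k X.hom Y.hom f.left (Over.w f) hdim, hflat⟩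

end Groth.Agent.Lib.Helper24.AbIsog
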